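import Cfsg.Agent.H15.MatAut

/-!
An involution of the Leech lattice inverting the permutation of cycle type `1^3 7^3`, with a frame
each of whose vectors it fixes or negates.
-/

set_option autoImplicit false
set_option maxRecDepth 100000

namespace Cfsg.Agent.H65.Monster

/-- The involution. -/
noncomputable def invMat : H15.Mat where
  cols := [
    [-6, 0, 0, 0, 0, 2, 2, 2, 0, 0, 0, 2, 0, 0, 0, 2, 0, 0, 0, 0, 0, 2, 2, 0],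
    [0, -2, 2, 2, -2, 0, 0, 0, 2, -2, -2, 0, -2, 2, -2, 0, 2, 2, 2, -2, -2, 0, 0, 2],
    [0, 2, 2, 2, -2, 0, 0, 0, -2, 2, -2, 0, 2, 2, -2, 0, -2, -2, -2, 2, -2, 0, 0, 2],
    [0, 2, 2, 2, 2, 0, 0, 0, -2, 2, -2, 0, -2, -2, -2, 0, 2, 2, -2, -2, 2, 0, 0, -2],
    [0, -2, -2, 2, -2, 0, 0, 0, -2, 2, -2, 0, 2, 2, 2, 0, 2, -2, 2, -2, 2, 0, 0, -2],
    [2, 0, 0, 0, 0, 2, 2, -6, 0, 0, 0, 2, 0, 0, 0, 2, 0, 0, 0, 0, 0, 2, 2, 0],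
    [2, 0, 0, 0, 0, 2, -6, 2, 0, 0, 0, 2, 0, 0, 0, 2, 0, 0, 0, 0, 0, 2, 2, 0],
    [2, 0, 0, 0, 0, -6, 2, 2, 0, 0, 0, 2, 0, 0, 0, 2, 0, 0, 0, 0, 0, 2, 2, 0],
    [0, 2, -2, -2, -2, 0, 0, 0, 2, 2, -2, 0, 2, -2, -2, 0, 2, 2, 2, 2, -2, 0, 0, -2],
    [0, -2, 2, 2, 2, 0, 0, 0, 2, -2, -2, 0, 2, -2, -2, 0, -2, -2, 2, 2, 2, 0, 0, -2],
    [0, -2, -2, -2, -2, 0, 0, 0, -2, -2, -2, 0, -2, -2, -2, 0, -2, -2, -2, -2, -2, 0, 0, -2],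
    [2, 0, 0, 0, 0, 2, 2, 2, 0, 0, 0, 2, 0, 0, 0, 2, 0, 0, 0, 0, 0, -6, 2, 0],
    [0, -2, 2, -2, 2, 0, 0, 0, 2, 2, -2, 0, -2, 2, 2, 0, 2, -2, -2, 2, -2, 0, 0, -2],
    [0, 2, 2, -2, 2, 0, 0, 0, -2, -2, -2, 0, 2, 2, 2, 0, -2, 2, 2, -2, -2, 0, 0, -2],
    [0, -2, -2, -2, 2, 0, 0, 0, -2, -2, -2, 0, 2, 2, -2, 0, 2, 2, -2, 2, 2, 0, 0, 2],
    [2, 0, 0, 0, 0, 2, 2, 2, 0, 0, 0, 2, 0, 0, 0, 2, 0, 0, 0, 0, 0, 2, -6, 0],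
    [0, 2, -2, 2, 2, 0, 0, 0, 2, -2, -2, 0, 2, -2, 2, 0, 2, -2, -2, -2, -2, 0, 0, 2],
    [0, 2, -2, 2, -2, 0, 0, 0, 2, -2, -2, 0, -2, 2, 2, 0, -2, 2, -2, 2, 2, 0, 0, -2],
    [0, 2, -2, -2, 2, 0, 0, 0, 2, 2, -2, 0, -2, 2, -2, 0, -2, -2, 2, -2, 2, 0, 0, 2],
    [0, -2, 2, -2, -2, 0, 0, 0, 2, 2, -2, 0, 2, -2, 2, 0, -2, 2, -2, -2, 2, 0, 0, 2],
    [0, -2, -2, 2, 2, 0, 0, 0, -2, 2, -2, 0, -2, -2, 2, 0, -2, 2, 2, 2, -2, 0, 0, 2],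
    [2, 0, 0, 0, 0, 2, 2, 2, 0, 0, 0, -6, 0, 0, 0, 2, 0, 0, 0, 0, 0, 2, 2, 0],
    [2, 0, 0, 0, 0, 2, 2, 2, 0, 0, 0, 2, 0, 0, 0, -6, 0, 0, 0, 0, 0, 2, 2, 0],
    [0, 2, 2, -2, -2, 0, 0, 0, -2, -2, -2, 0, -2, -2, 2, 0, 2, -2, 2, 2, 2, 0, 0, 2]]
  rows := [
    [-6, 0, 0, 0, 0, 2, 2, 2, 0, 0, 0, 2, 0, 0, 0, 2, 0, 0, 0, 0, 0, 2, 2, 0],
    [0, -2, 2, 2, -2, 0, 0, 0, 2, -2, -2, 0, -2, 2, -2, 0, 2, 2, 2, -2, -2, 0, 0, 2],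
    [0, 2, 2, 2, -2, 0, 0, 0, -2, 2, -2, 0, 2, 2, -2, 0, -2, -2, -2, 2, -2, 0, 0, 2],
    [0, 2, 2, 2, 2, 0, 0, 0, -2, 2, -2, 0, -2, -2, -2, 0, 2, 2, -2, -2, 2, 0, 0, -2],
    [0, -2, -2, 2, -2, 0, 0, 0, -2, 2, -2, 0, 2, 2, 2, 0, 2, -2, 2, -2, 2, 0, 0, -2],
    [2, 0, 0, 0, 0, 2, 2, -6, 0, 0, 0, 2, 0, 0, 0, 2, 0, 0, 0, 0, 0, 2, 2, 0],
    [2, 0, 0, 0, 0, 2, -6, 2, 0, 0, 0, 2, 0, 0, 0, 2, 0, 0, 0, 0, 0, 2, 2, 0],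
    [2, 0, 0, 0, 0, -6, 2, 2, 0, 0, 0, 2, 0, 0, 0, 2, 0, 0, 0, 0, 0, 2, 2, 0],
    [0, 2, -2, -2, -2, 0, 0, 0, 2, 2, -2, 0, 2, -2, -2, 0, 2, 2, 2, 2, -2, 0, 0, -2],
    [0, -2, 2, 2, 2, 0, 0, 0, 2, -2, -2, 0, 2, -2, -2, 0, -2, -2, 2, 2, 2, 0, 0, -2],
    [0, -2, -2, -2, -2, 0, 0, 0, -2, -2, -2, 0, -2, -2, -2, 0, -2, -2, -2, -2, -2, 0, 0, -2],
    [2, 0, 0, 0, 0, 2, 2, 2, 0, 0, 0, 2, 0, 0, 0, 2, 0, 0, 0, 0, 0, -6, 2, 0],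
    [0, -2, 2, -2, 2, 0, 0, 0, 2, 2, -2, 0, -2, 2, 2, 0, 2, -2, -2, 2, -2, 0, 0, -2],
    [0, 2, 2, -2, 2, 0, 0, 0, -2, -2, -2, 0, 2, 2, 2, 0, -2, 2, 2, -2, -2, 0, 0, -2],
    [0, -2, -2, -2, 2, 0, 0, 0, -2, -2, -2, 0, 2, 2, -2, 0, 2, 2, -2, 2, 2, 0, 0, 2],
    [2, 0, 0, 0, 0, 2, 2, 2, 0, 0, 0, 2, 0, 0, 0, 2, 0, 0, 0, 0, 0, 2, -6, 0],
    [0, 2, -2, 2, 2, 0, 0, 0, 2, -2, -2, 0, 2, -2, 2, 0, 2, -2, -2, -2, -2, 0, 0, 2],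
    [0, 2, -2, 2, -2, 0, 0, 0, 2, -2, -2, 0, -2, 2, 2, 0, -2, 2, -2, 2, 2, 0, 0, -2],
    [0, 2, -2, -2, 2, 0, 0, 0, 2, 2, -2, 0, -2, 2, -2, 0, -2, -2, 2, -2, 2, 0, 0, 2],
    [0, -2, 2, -2, -2, 0, 0, 0, 2, 2, -2, 0, 2, -2, 2, 0, -2, 2, -2, -2, 2, 0, 0, 2],
    [0, -2, -2, 2, 2, 0, 0, 0, -2, 2, -2, 0, -2, -2, 2, 0, -2, 2, 2, 2, -2, 0, 0, 2],
    [2, 0, 0, 0, 0, 2, 2, 2, 0, 0, 0, -6, 0, 0, 0, 2, 0, 0, 0, 0, 0, 2, 2, 0],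
    [2, 0, 0, 0, 0, 2, 2, 2, 0, 0, 0, 2, 0, 0, 0, -6, 0, 0, 0, 0, 0, 2, 2, 0],
    [0, 2, 2, -2, -2, 0, 0, 0, -2, -2, -2, 0, -2, -2, 2, 0, 2, -2, 2, 2, 2, 0, 0, 2]]

/-- The frame. -/
noncomputable def frameL : List (List ℤ) :=
  [
    [2, 2, 0, 0, -2, 2, 2, 2, 0, -2, 2, 2, -2, 0, -2, 2, 0, 0, 0, -2, -2, 2, 2, 0],
    [2, -2, 0, 0, 2, 2, 2, 2, 0, 2, -2, 2, 2, 0, 2, 2, 0, 0, 0, 2, 2, 2, 2, 0],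
    [0, 4, 2, 2, 0, 0, 0, 0, 2, 0, -4, 0, 0, 2, 0, 0, 2, 2, 2, 0, 0, 0, 0, 2],
    [0, 0, 2, 2, 0, 0, 0, 0, 2, 4, 0, 0, 0, -2, -4, 0, -2, -2, 2, 0, 0, 0, 0, -2],
    [0, 0, 2, 2, 0, 0, 0, 0, -2, 0, 0, 4, 0, -2, 0, 0, 2, -2, -2, 0, 0, -4, 0, 2],
    [0, 0, 2, 2, 0, 0, 0, 0, -2, 0, 0, 0, 0, 2, 0, 4, -2, 2, -2, 0, 0, 0, -4, -2],
    [0, 0, 2, 2, 0, 0, 0, 0, -2, 0, 0, 0, 0, 2, 0, -4, -2, 2, -2, 0, 0, 0, 4, -2],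
    [0, 0, 2, 2, 0, 0, 0, 0, -2, 0, 0, -4, 0, -2, 0, 0, 2, -2, -2, 0, 0, 4, 0, 2],
    [0, 0, 2, -2, 0, 4, 0, -4, -2, 0, 0, 0, 0, 2, 0, 0, -2, -2, 2, 0, 0, 0, 0, 2],
    [0, 0, 2, -2, 0, 0, 0, 0, 2, 0, 0, 0, 4, 2, 0, 0, 2, -2, -2, 0, -4, 0, 0, -2],
    [0, 0, 2, -2, 0, -4, 0, 4, -2, 0, 0, 0, 0, 2, 0, 0, -2, -2, 2, 0, 0, 0, 0, 2],
    [0, 0, 2, -2, -4, 0, 0, 0, 2, 0, 0, 0, 0, -2, 0, 0, -2, 2, -2, 4, 0, 0, 0, 2],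
    [4, 0, 2, -2, 0, 0, -4, 0, -2, 0, 0, 0, 0, -2, 0, 0, 2, 2, 2, 0, 0, 0, 0, -2],
    [4, 0, -2, 2, 0, 0, -4, 0, 2, 0, 0, 0, 0, 2, 0, 0, -2, -2, -2, 0, 0, 0, 0, 2],
    [2, 2, 0, 0, 2, 2, 2, 2, 0, -2, 2, -2, 2, 0, -2, -2, 0, 0, 0, 2, 2, -2, -2, 0],
    [2, 2, 0, 0, 2, -2, 2, -2, 0, 2, 2, 2, -2, 0, 2, -2, 0, 0, 0, 2, -2, 2, -2, 0],
    [2, 2, 0, 0, -2, -2, 2, -2, 0, 2, 2, -2, 2, 0, 2, 2, 0, 0, 0, -2, 2, -2, 2, 0],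
    [2, -2, 0, 0, 2, -2, 2, -2, 0, -2, -2, -2, -2, 0, -2, 2, 0, 0, 0, 2, -2, -2, 2, 0],
    [2, -2, 0, 0, -2, 2, 2, 2, 0, 2, -2, -2, -2, 0, 2, -2, 0, 0, 0, -2, -2, -2, -2, 0],
    [2, -2, 0, 0, -2, -2, 2, -2, 0, -2, -2, 2, 2, 0, -2, -2, 0, 0, 0, -2, 2, 2, -2, 0],
    [0, 4, -2, -2, 0, 0, 0, 0, -2, 0, -4, 0, 0, -2, 0, 0, -2, -2, -2, 0, 0, 0, 0, -2],
    [0, 0, 2, 2, 0, 0, 0, 0, 2, -4, 0, 0, 0, -2, 4, 0, -2, -2, 2, 0, 0, 0, 0, -2],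
    [0, 0, 2, -2, 4, 0, 0, 0, 2, 0, 0, 0, 0, -2, 0, 0, -2, 2, -2, -4, 0, 0, 0, 2],
    [0, 0, 2, -2, 0, 0, 0, 0, 2, 0, 0, 0, -4, 2, 0, 0, 2, -2, -2, 0, 4, 0, 0, -2]]

end Cfsg.Agent.H65.Monster
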